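import Cfsg.Agent.H508.KB.Defs
import Cfsg.Agent.H774.K0.Six
import Cfsg.Agent.S0960

/-!
# S4822, small primes (`p ≤ 7`, or Sylow subgroups of order `p`): elementary
-/

set_option autoImplicit false

open Cfsg

namespace Cfsg.Agent.H634.KB

open Cfsg.Agent.H508.KB Cfsg.Agent.H703.Lat

universe u

variable {p : ℕ} [hp : Fact p.Prime] {M : Ideal AlgInt}

/-- `e + m / e` is at least `2 √m`. -/
theorem am_gm {m e : ℕ} (he : e ∣ m) : 4 * m ≤ (e + m / e) ^ 2 := by
  obtain ⟨t, rfl⟩ := he
  rcases Nat.eq_zero_or_pos e with rfl | h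
  · simp
  · rw [Nat.mul_div_cancel_left _ h]
    have h2 : (4 : ℤ) * (e * t) ≤ (e + t) ^ 2 := by nlinarith [sq_nonneg ((e : ℤ) - t)]
    exact_mod_cast h2

/-- The inertial index of a Sylow subgroup of order `p` divides `p - 1`. -/
theorem relIndex_dvd {G : Type u} [Group G] [Finite G] (P : Sylow p G) (hP : Nat.card P = p) :
    (Subgroup.centralizer ((P : Subgroup G) : Set G)).relIndex
      (Subgroup.normalizer ((P : Subgroup G) : Set G)) ∣ p - 1 := by
  have key := Subgroup.card_dvd_of_injective _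
    (QuotientGroup.kerLift_injective (P : Subgroup G).normalizerMonoidHom)
  rw [Subgroup.normalizerMonoidHom_ker] at key
  have hcyc : IsCyclic (P : Subgroup G) := isCyclic_of_prime_card hP
  have h1 : Nat.card (MulAut (P : Subgroup G)) = p - 1 := by
    rw [IsCyclic.card_mulAut, hP, Nat.totient_prime hp.out]
  rw [h1] at key
  exact key

omit hp in
theorem one_le_kB {G : Type u} [Group G] [Finite G] (hM : IsPModular p M) : 1 ≤ kB M G := by
  have := Characters.Core.finite_irr (G := G)
  have : Nonempty (principalBlock M G) := ⟨⟨_, mem_B0.1 (one_mem_B0 hM)⟩⟩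
  exact Nat.card_pos

theorem two_le_kB {G : Type u} [Group G] [Finite G] (hM : IsPModular p M) (hpG : p ∣ Nat.card G) :
    2 ≤ kB M G := by
  by_contra hcon
  have h0 := one_le_kB (G := G) hM
  have h1 : kB M G = 1 := by omega
  have hc : (B0 M G).card = 1 := by
    rw [← h1]
    unfold kB
    rw [← Nat.card_eq_finsetCard]
    exact Nat.card_congr (Equiv.subtypeEquivRight fun χ => mem_B0)
  obtain ⟨χ, hχ⟩ := Finset.card_eq_one.1 hc
  have h2 := dvd_sum_sq hM (good_principal (G := G) hM) (a := 1) (by rwa [pow_one])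
  have h3 := one_mem_B0 (G := G) hM
  rw [hχ, Finset.mem_singleton] at h3
  rw [hχ, Finset.sum_singleton, ← h3, H774.K0.charDegree_one] at h2
  have h4 : ((p ^ 1 : ℕ) : ℤ) ∣ 1 := by simpa using h2
  rw [pow_one] at h4
  have h5 : p ∣ 1 := by exact_mod_cast h4
  exact hp.out.one_lt.ne' (Nat.dvd_one.1 h5)

/-- Sylow subgroups of order `p`. -/
theorem of_card_eq {G : Type u} [Group G] [Finite G] (hM : IsPModular p M) (hpG : p ∣ Nat.card G)
    (hp2G : ¬ p ^ 2 ∣ Nat.card G) : 4 * (p - 1) ≤ kB M G ^ 2 := by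
  rcases eq_or_ne p 2 with rfl | hp2
  · have := two_le_kB (G := G) hM hpG
    nlinarith
  · obtain ⟨P⟩ : Nonempty (Sylow p G) := inferInstance
    have hP : Nat.card P = p := by
      have h1 : (Nat.card G).factorization p = 1 := by
        have h2 : ¬ 2 ≤ (Nat.card G).factorization p := fun h =>
          hp2G ((hp.out.pow_dvd_iff_le_factorization Nat.card_pos.ne').2 h)
        have h3 : 1 ≤ (Nat.card G).factorization p :=
          (hp.out.pow_dvd_iff_le_factorization Nat.card_pos.ne').1 (by rwa [pow_one])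
        omega
      have h4 := P.card_eq_multiplicity
      rw [h1, pow_one] at h4
      exact h4
    have h1 := (S0960.result p M hM hp2 P hP _ rfl).1
    unfold kB
    rw [h1]
    exact am_gm (relIndex_dvd P hP)

theorem small (hp7 : p ≤ 7) (hM : IsPModular p M) (G : Type u) [Group G] [Finite G] (hpG : p ∣ Nat.card G) :
    4 * (p - 1) ≤ kB M G ^ 2 := by
  by_cases h2 : p ^ 2 ∣ Nat.card G
  · rcases eq_or_ne p 2 with rfl | hp2
    · have := two_le_kB (G := G) hM hpG
      nlinarith
    · have h3 := H774.K0.six_le_card hp2 hM h2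
      have h4 : Nat.card {χ : IrrCharacter G // χ ∈ principalBlock M G ∧ ¬ p ∣ charDegree (χ : G → ℂ)} ≤ kB M G := by
        have := Characters.Core.finite_irr (G := G)
        exact Nat.card_le_card_of_injective (fun χ => ⟨χ.1, χ.2.1⟩)
          (fun a b h => Subtype.ext (by simpa using h))
      have h5 : 6 ≤ kB M G := h3.trans h4
      have h6 : 6 ^ 2 ≤ kB M G ^ 2 := Nat.pow_le_pow_left h5 2
      omega
  · exact of_card_eq hM hpG h2

end Cfsg.Agent.H634.KB
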